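import Mathlib
import Groth.Agent.Lib.Gor.Liaison
import Groth.Agent.Lib.LiaisonCM.LinkedRing

/-!
# Lengths in linkage
-/

namespace LinkDeg1

open IsLocalRing

universe u

/-- In a zero-dimensional Gorenstein local ring the colengths of `K` and of its annihilator add up
to the length of the ring. -/
theorem length_add {L : Type u} [CommRing L] [LocCoh.IsGorensteinLocalRing L]
    (hd : ringKrullDim L = 0) {K K' : Ideal L} (h : ∀ y, y ∈ K' ↔ ∀ i ∈ K, y * i = 0) :
    Module.length L L = Module.length L (L ⧸ K) + Module.length L (L ⧸ K') := by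
  let ann : Ideal L → Ideal L := fun a => Submodule.annihilator a
  have hann : ∀ (a : Ideal L) y, y ∈ ann a ↔ ∀ i ∈ a, y * i = 0 := fun a y => by
    simp [ann, Submodule.mem_annihilator]
  have hinv : ∀ a : Ideal L, ann (ann a) = a := fun a => by
    refine le_antisymm (fun x hx => GrothLib.Gor.mem_of_mul_annihilator hd a x fun b hb => ?_) fun x hx => ?_
    · rw [mul_comm]; exact (hann _ x).1 hx b ((hann a b).2 hb)
    · exact (hann _ x).2 fun i hi => by rw [mul_comm]; exact (hann a i).1 hi x hx
  have hanti : ∀ {a b : Ideal L}, a ≤ b → ann b ≤ ann a := fun hab y hy =>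
    (hann _ y).2 fun i hi => (hann _ y).1 hy i (hab hi)
  let Φ : Ideal L ≃o (Ideal L)ᵒᵈ :=
    { toFun := fun a => OrderDual.toDual (ann a)
      invFun := fun a => ann (OrderDual.ofDual a)
      left_inv := hinv
      right_inv := fun a => by simp [hinv]
      map_rel_iff' := fun {a b} => ⟨fun hab => by
        have hab' : ann b ≤ ann a := hab
        have h2 := hanti hab'
        rwa [hinv, hinv] at h2,
        fun hab => (hanti hab : ann b ≤ ann a)⟩ }
  have hK : K' = ann K := Ideal.ext fun y => (h y).trans (hann K y).symm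
  have e : Module.length L K' = Module.length L (L ⧸ K) := by
    rw [Module.length_submodule, Module.length_quotient, hK]
    have h1 := Order.height_orderIso Φ.symm (OrderDual.toDual K)
    rw [Order.height_toDual] at h1
    exact h1
  rw [Module.length_eq_add_of_exact K'.subtype K'.mkQ K'.injective_subtype K'.mkQ_surjective
    (LinearMap.exact_subtype_mkQ K'), e]

variable {S : Type u} [CommRing S] (c : Ideal S)

/-- Localised quotients computed in the localisation of `S/c`. -/
theorem length_localized_quot (Q : Ideal (S ⧸ c)) [Q.IsPrime] (J : Ideal S) (hcJ : c ≤ J) :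
    Module.length (Localization.AtPrime (Q.comap (Ideal.Quotient.mk c)))
        (LocalizedModule (Q.comap (Ideal.Quotient.mk c)).primeCompl (S ⧸ J)) =
      Module.length (Localization.AtPrime Q) (Localization.AtPrime Q ⧸
        (J.map (Ideal.Quotient.mk c)).map (algebraMap (S ⧸ c) (Localization.AtPrime Q))) := by
  set q := Q.comap (Ideal.Quotient.mk c) with hq
  let ψ : Localization.AtPrime q →+* Localization.AtPrime Q :=
    Localization.localRingHom q Q (Ideal.Quotient.mk c) rfl
  have hψs : ∀ a s, ψ (IsLocalization.mk' _ a s) = IsLocalization.mk' _ (Ideal.Quotient.mk c a)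
      (⟨Ideal.Quotient.mk c (s : S), s.2⟩ : Q.primeCompl) := fun a s =>
    Localization.localRingHom_mk' _ _ _ _ a s
  have hψ : Function.Surjective ψ := fun y => by
    obtain ⟨b, t, rfl⟩ := IsLocalization.exists_mk'_eq Q.primeCompl y
    obtain ⟨a, rfl⟩ := Ideal.Quotient.mk_surjective b
    obtain ⟨s, hs⟩ := Ideal.Quotient.mk_surjective (t : S ⧸ c)
    exact ⟨IsLocalization.mk' _ a (⟨s, fun h => t.2 (hs ▸ (Ideal.mem_comap.1 h))⟩ : q.primeCompl),
      (hψs _ _).trans (by congr 1; exact Subtype.ext hs)⟩
  letI : Algebra (Localization.AtPrime q) (Localization.AtPrime Q) := ψ.toAlgebra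
  set K := (J.map (Ideal.Quotient.mk c)).map (algebraMap (S ⧸ c) (Localization.AtPrime Q)) with hK
  have hker : J.map (algebraMap S (Localization.AtPrime q)) = K.comap ψ := by
    refine le_antisymm (Ideal.map_le_iff_le_comap.2 fun j hj => ?_) fun x hx => ?_
    · rw [Ideal.mem_comap, Ideal.mem_comap]
      show Localization.localRingHom q Q _ rfl (algebraMap S _ j) ∈ K
      rw [Localization.localRingHom_to_map]
      exact Ideal.mem_map_of_mem _ (Ideal.mem_map_of_mem _ hj)
    · obtain ⟨a, s, rfl⟩ := IsLocalization.exists_mk'_eq q.primeCompl x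
      rw [Ideal.mem_comap, hψs, hK, IsLocalization.mk'_mem_map_algebraMap_iff Q.primeCompl] at hx
      obtain ⟨t, ht, hta⟩ := hx
      obtain ⟨t, rfl⟩ := Ideal.Quotient.mk_surjective t
      rw [← map_mul, ← Ideal.mem_comap, Ideal.comap_map_of_surjective' _ Ideal.Quotient.mk_surjective,
        Ideal.mk_ker, sup_eq_left.2 hcJ] at hta
      exact (IsLocalization.mk'_mem_map_algebraMap_iff q.primeCompl _ J a s).2 ⟨t, ht, hta⟩
  have e1 : Module.length (Localization.AtPrime q) (LocalizedModule q.primeCompl (S ⧸ J)) =
      Module.length (Localization.AtPrime q)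
        (Localization.AtPrime q ⧸ J.map (algebraMap S (Localization.AtPrime q))) :=
    ((IsLocalizedModule.linearEquiv q.primeCompl (LocalizedModule.mkLinearMap q.primeCompl (S ⧸ J))
      (Submodule.toLocalizedQuotient' (Localization.AtPrime q) q.primeCompl
        (Algebra.linearMap S (Localization.AtPrime q)) J)).extendScalarsOfIsLocalization q.primeCompl
        (Localization.AtPrime q)).length_eq.trans
      (Submodule.quotEquivOfEq _ _ (Ideal.localized'_eq_map (Localization.AtPrime q) q.primeCompl J)).length_eq
  rw [e1]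
  let g : Localization.AtPrime q →ₗ[Localization.AtPrime q] Localization.AtPrime Q ⧸ K :=
    (Algebra.linearMap (Localization.AtPrime q) (Localization.AtPrime Q ⧸ K))
  have hg : Function.Surjective g := fun y => by
    obtain ⟨y, rfl⟩ := Ideal.Quotient.mk_surjective y
    obtain ⟨x, rfl⟩ := hψ y
    exact ⟨x, rfl⟩
  have hkg : LinearMap.ker g = J.map (algebraMap S (Localization.AtPrime q)) := by
    rw [hker]
    ext x
    exact (Ideal.Quotient.eq_zero_iff_mem (I := K) (a := ψ x))
  rw [(Submodule.quotEquivOfEq _ _ hkg.symm).length_eq, (g.quotKerEquivOfSurjective hg).length_eq]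
  exact Module.length_eq_of_surjective hψ

variable [LocCoh.IsGorensteinRing (S ⧸ c)] [IsNoetherianRing S]

theorem length_linked (I : Ideal S) (hcI : c ≤ I) (Q : Ideal (S ⧸ c)) [Q.IsPrime]
    (hd : ringKrullDim (Localization.AtPrime Q) = 0) :
    Module.length (Localization.AtPrime (Q.comap (Ideal.Quotient.mk c)))
        (LocalizedModule (Q.comap (Ideal.Quotient.mk c)).primeCompl (S ⧸ c)) =
      Module.length (Localization.AtPrime (Q.comap (Ideal.Quotient.mk c)))
          (LocalizedModule (Q.comap (Ideal.Quotient.mk c)).primeCompl (S ⧸ I)) +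
        Module.length (Localization.AtPrime (Q.comap (Ideal.Quotient.mk c)))
          (LocalizedModule (Q.comap (Ideal.Quotient.mk c)).primeCompl (S ⧸ c.colon (I : Set S))) := by
  haveI := LocCoh.IsGorensteinRing.isGorensteinLocalRing_localization (A := S ⧸ c) Q
  have hcJ : c ≤ c.colon (I : Set S) := fun z hz =>
    Submodule.mem_colon.2 fun a _ => c.mul_mem_right a hz
  rw [length_localized_quot c Q c le_rfl, length_localized_quot c Q I hcI,
    length_localized_quot c Q _ hcJ, Ideal.map_quotient_self, Ideal.map_bot,
    (Submodule.quotEquivOfEqBot _ rfl).length_eq]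
  exact length_add hd (GrothLib.LiaisonCM.mem_map_colon_iff Q.primeCompl
    (GrothLib.LiaisonCM.mem_map_iff_of_colon rfl))

end LinkDeg1
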