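import Mathlib
import Groth.Agent.Lib.LinkDeg1.Local
import Groth.Agent.Lib.GrHilb10.Degree
import Groth.Agent.Lib.RegTilde27.Free
import Groth.Agent.Lib.AffDom.Formula

/-!
# Degrees of linked ideals
-/

namespace LinkDeg1

open Filter Polynomial GrothLib

universe u

variable {k : Type u} [Field k] {n : ℕ}

local notation "S" => MvPolynomial (Fin (n + 1)) k
local notation "m" => MvPolynomial.idealOfVars (Fin (n + 1)) k

theorem dim_prime_le {c D : ℕ} (hD : D + 1 + c = n + 1) {J : Ideal S} (hJ : (c : ℕ∞) ≤ J.height)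
    (p : Ideal S) [p.IsPrime] (hp : J ≤ p) : ringKrullDim (S ⧸ p) ≤ (D + 1 : ℕ) := by
  have h := GrothLib.AffDom.height_add_ringKrullDim_quotient k S p
  rw [MvPolynomial.ringKrullDim_of_isNoetherianRing, ringKrullDim_eq_zero_of_field] at h
  obtain ⟨d, hd⟩ := ProjDim.exists_nat_dim_quotient p
  have hc : (c : ℕ∞) ≤ p.height := hJ.trans (Ideal.height_mono hp)
  rw [hd] at h ⊢
  obtain ⟨t, ht⟩ := ENat.ne_top_iff_exists.1 (show p.height ≠ ⊤ from Ideal.height_ne_top Ideal.IsPrime.ne_top')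
  rw [← ht] at h hc
  have h1 : ((t + d : ℕ) : WithBot ℕ∞) = ((n + 1 : ℕ) : WithBot ℕ∞) := by
    rw [Nat.card_fin, zero_add] at h
    rw [Nat.cast_add]
    exact h
  have h2 : t + d = n + 1 := by exact_mod_cast h1
  have h3 : c ≤ t := by exact_mod_cast hc
  exact_mod_cast (show d ≤ D + 1 by omega)

theorem dim_le {c D : ℕ} (hD : D + 1 + c = n + 1) {J : Ideal S} (hJ : (c : ℕ∞) ≤ J.height) :
    ringKrullDim (S ⧸ J) ≤ (D + 1 : ℕ) := by
  by_cases hne : J = ⊤
  · haveI : Subsingleton (S ⧸ J) := Ideal.Quotient.subsingleton_iff.2 hne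
    rw [ringKrullDim_eq_bot_of_subsingleton]
    exact bot_le
  obtain ⟨d, hd⟩ := GrHilb10.exists_nat_dim hne
  obtain ⟨p, hp, hpd⟩ := GrHilb10.exists_minimal_dim hd
  haveI := hp.1.1
  rw [hd, ← hpd]
  exact dim_prime_le hD hJ p hp.1.2

open scoped Classical in
theorem coeff_eq {𝔠 I J : Ideal S} [LocCoh.IsGorensteinRing (S ⧸ 𝔠)] (hcI : 𝔠 ≤ I)
    (hJ : J = 𝔠.colon (I : Set S)) (h𝔠 : 𝔠.IsHomogeneous (CohB1.polyGrading n k))
    (hI : I.IsHomogeneous (CohB1.polyGrading n k)) (hJh : J.IsHomogeneous (CohB1.polyGrading n k))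
    {c D : ℕ} (hD : D + 1 + c = n + 1) (hc : (c : ℕ∞) ≤ 𝔠.height) {Pc PI PJ : ℚ[X]}
    (hPc : GrHilb10.IsHP 𝔠 Pc) (hPI : GrHilb10.IsHP I PI) (hPJ : GrHilb10.IsHP J PJ) :
    Pc.coeff D = PI.coeff D + PJ.coeff D := by
  have hcJ : 𝔠 ≤ J := hJ ▸ fun z hz => Submodule.mem_colon.2 fun a _ => 𝔠.mul_mem_right a hz
  have hex : ∀ q : PrimeSpectrum S, ∃ e : ℝ, ringKrullDim (S ⧸ q.asIdeal) = (D + 1 : ℕ) →
      Tendsto (fun t : ℕ => (GrothLib.HilbSam.samuel m (S ⧸ q.asIdeal) t : ℝ) / (t : ℝ) ^ (D + 1)) atTop (nhds e) := by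
    intro q
    by_cases h : ringKrullDim (S ⧸ q.asIdeal) = (D + 1 : ℕ)
    · obtain ⟨Q, hQd, hQ⟩ := GrothLib.HilbSam.exists_polynomial_le (GrHilb10.isDefining (S ⧸ q.asIdeal))
        (d := D + 1) (by rw [Module.supportDim_quotient_eq_ringKrullDim]; exact h.le)
      exact ⟨_, fun _ => GrothLib.HilbSam.tendsto_samuel_of_eval hQd hQ⟩
    · exact ⟨0, fun h' => absurd h' h⟩
  choose e he using hex
  have main : ∀ (K : Ideal S), 𝔠 ≤ K → K.IsHomogeneous (CohB1.polyGrading n k) → ∀ P : ℚ[X],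
      GrHilb10.IsHP K P →
      (GrothLib.HilbSam.wgt (D + 1) e (S ⧸ K)).HasFiniteSupport ∧
        (P.coeff D : ℝ) / (D + 1) = ∑ᶠ q, GrothLib.HilbSam.wgt (D + 1) e (S ⧸ K) q := by
    intro K hcK hK P hP
    have hd := dim_le hD (hc.trans (Ideal.height_mono hcK))
    obtain ⟨-, hfin, hlim⟩ := GrothLib.HilbSam.tendsto_samuel_assoc (I := m) GrHilb10.isMaximal_of_le e he
      (S ⧸ K) (by rw [Module.supportDim_quotient_eq_ringKrullDim]; exact hd)
    exact ⟨hfin, tendsto_nhds_unique (GrHilb10.le_of_dim_le hK hd hP).2 hlim⟩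
  obtain ⟨-, ec⟩ := main 𝔠 le_rfl h𝔠 Pc hPc
  obtain ⟨fI, eI⟩ := main I hcI hI PI hPI
  obtain ⟨fJ, eJ⟩ := main J hcJ hJh PJ hPJ
  have hw : ∀ q, GrothLib.HilbSam.wgt (D + 1) e (S ⧸ 𝔠) q =
      GrothLib.HilbSam.wgt (D + 1) e (S ⧸ I) q + GrothLib.HilbSam.wgt (D + 1) e (S ⧸ J) q := by
    intro q
    unfold GrothLib.HilbSam.wgt
    split_ifs with hq
    · by_cases hcq : 𝔠 ≤ q.asIdeal
      · obtain ⟨q, hqp⟩ := q
        haveI := hqp
        obtain ⟨Q, hQ, rfl⟩ : ∃ Q : Ideal (S ⧸ 𝔠), Q.IsPrime ∧ Q.comap (Ideal.Quotient.mk 𝔠) = q :=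
          ⟨q.map (Ideal.Quotient.mk 𝔠), Ideal.map_isPrime_of_surjective Ideal.Quotient.mk_surjective (by rw [Ideal.mk_ker]; exact hcq),
            by rw [Ideal.comap_map_of_surjective' _ Ideal.Quotient.mk_surjective, Ideal.mk_ker, sup_eq_left.2 hcq]⟩
        have hmin : Q ∈ minimalPrimes (S ⧸ 𝔠) := by
          refine ⟨⟨hQ, bot_le⟩, fun p hp hpQ => ?_⟩
          haveI := hp.1
          by_contra hne
          have hlt : p.comap (Ideal.Quotient.mk 𝔠) < Q.comap (Ideal.Quotient.mk 𝔠) :=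
            lt_of_le_not_ge (Ideal.comap_mono hpQ) fun h => hne
              ((Ideal.comap_le_comap_iff_of_surjective _ Ideal.Quotient.mk_surjective _ _).1 h)
          have h1 := ProjDim.dim_add_one_le_of_lt hlt
          have h2 : ringKrullDim (S ⧸ p.comap (Ideal.Quotient.mk 𝔠)) ≤ (D + 1 : ℕ) :=
            dim_prime_le hD hc _ (fun z hz => by
              rw [Ideal.mem_comap, Ideal.Quotient.eq_zero_iff_mem.2 hz]; exact zero_mem _)
          rw [show ringKrullDim (S ⧸ Q.comap (Ideal.Quotient.mk 𝔠)) = (D + 1 : ℕ) from hq] at h1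
          have h3 : (D + 1 : ℕ) + 1 ≤ D + 1 := by exact_mod_cast h1.trans h2
          omega
        have hd0 : ringKrullDim (Localization.AtPrime Q) = 0 := by
          rw [IsLocalization.AtPrime.ringKrullDim_eq_height Q (Localization.AtPrime Q),
            Ideal.height_eq_zero_iff.2 hmin]
          rfl
        have h := length_linked 𝔠 I hcI Q hd0
        rw [← hJ] at h
        have hne : Module.length (Localization.AtPrime (Q.comap (Ideal.Quotient.mk 𝔠)))
            (LocalizedModule (Q.comap (Ideal.Quotient.mk 𝔠)).primeCompl (S ⧸ 𝔠)) ≠ ⊤ :=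
          (GrothLib.HilbSam.tendsto_samuel_assoc (I := m) GrHilb10.isMaximal_of_le e he (S ⧸ 𝔠)
            (by rw [Module.supportDim_quotient_eq_ringKrullDim]; exact dim_le hD hc)).1
            ⟨Q.comap (Ideal.Quotient.mk 𝔠), inferInstance⟩ hq
        rw [h] at hne
        show ((Module.length (Localization.AtPrime (Q.comap (Ideal.Quotient.mk 𝔠)))
          (LocalizedModule (Q.comap (Ideal.Quotient.mk 𝔠)).primeCompl (S ⧸ 𝔠))).toNat : ℝ) * _ = _
        rw [h, ENat.toNat_add (WithTop.add_ne_top.1 hne).1 (WithTop.add_ne_top.1 hne).2]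
        push_cast
        ring
      · have z : ∀ K : Ideal S, 𝔠 ≤ K →
            Module.length (Localization.AtPrime q.asIdeal) (LocalizedModule q.asIdeal.primeCompl (S ⧸ K)) = 0 := by
          intro K hK
          have : Subsingleton (LocalizedModule q.asIdeal.primeCompl (S ⧸ K)) :=
            Module.notMem_support_iff.1 (by
              rw [Module.support_eq_zeroLocus, Ideal.annihilator_quotient, PrimeSpectrum.mem_zeroLocus]
              exact fun h => hcq (hK.trans h))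
          exact Module.length_eq_zero
        simp [z 𝔠 le_rfl, z I hcI, z J hcJ]
    · simp
  have : (Pc.coeff D : ℝ) / (D + 1) = (PI.coeff D : ℝ) / (D + 1) + (PJ.coeff D : ℝ) / (D + 1) := by
    rw [ec, eI, eJ, ← finsum_add_distrib fI fJ]
    exact finsum_congr hw
  have h0 : ((D : ℝ) + 1) ≠ 0 := by positivity
  field_simp at this
  exact_mod_cast this

theorem isHomogeneous_of_stdGr {I : Ideal S} (h : I.IsHomogeneous (_root_.GrSyz.stdGr k (Fin (n + 1)))) :
    I.IsHomogeneous (CohB1.polyGrading n k) := by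
  obtain ⟨s, rfl⟩ := (Ideal.IsHomogeneous.iff_exists _ I).1 h
  refine Ideal.homogeneous_span _ _ ?_
  rintro _ ⟨⟨f, j, hf⟩, -, rfl⟩
  by_cases h0 : f = 0
  · exact ⟨0, by subst h0; exact zero_mem _⟩
  obtain ⟨d, hd⟩ := MvPolynomial.exists_coeff_ne_zero h0
  have h1 := (_root_.GrSyz.mem_stdGr_iff k _ j f).1 hf hd
  rw [GrothLib.GrSyz.weight_one] at h1
  exact ⟨d.degree, RegTilde27.mem_stdGr_natCast.1 (h1 ▸ hf)⟩

theorem finrank_map_piece (J : Ideal S) (t : ℕ) :
    Module.finrank k ↥(Submodule.map (Ideal.Quotient.mkₐ k J).toLinearMap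
        (_root_.GrSyz.stdGr k (Fin (n + 1)) (t : ℤ))) = GrHilb10.hf J t := by
  have he : _root_.GrSyz.stdGr k (Fin (n + 1)) (t : ℤ) = CohB1.polyGrading n k t :=
    Submodule.ext fun _ => RegTilde27.mem_stdGr_natCast
  rw [he]
  let f := (Ideal.Quotient.mkₐ k J).toLinearMap.domRestrict (CohB1.polyGrading n k t)
  have h := f.finrank_range_add_finrank_ker
  have hr : LinearMap.range f = Submodule.map (Ideal.Quotient.mkₐ k J).toLinearMap (CohB1.polyGrading n k t) :=
    LinearMap.range_domRestrict _ _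
  have hk : Module.finrank k (LinearMap.ker f) =
      Module.finrank k ↥(Submodule.restrictScalars k J ⊓ CohB1.polyGrading n k t) := by
    have hk' : LinearMap.ker f = (Submodule.restrictScalars k J).comap (CohB1.polyGrading n k t).subtype := by
      ext x
      exact Ideal.Quotient.eq_zero_iff_mem
    rw [hk', inf_comm, ← Submodule.map_comap_subtype]
    exact (Submodule.equivMapOfInjective _ (Submodule.injective_subtype _) _).finrank_eq
  rw [hr, hk] at h
  unfold GrHilb10.hf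
  omega

theorem isHomogeneous_colon {𝒜 : ℕ → Submodule k S} [GradedAlgebra 𝒜] {𝔠 I : Ideal S}
    (h𝔠 : 𝔠.IsHomogeneous 𝒜) (hI : I.IsHomogeneous 𝒜) : (𝔠.colon (I : Set S)).IsHomogeneous 𝒜 := by
  classical
  obtain ⟨s, rfl⟩ := (Ideal.IsHomogeneous.iff_exists _ I).1 hI
  intro i y hy
  rw [Submodule.mem_colon] at hy ⊢
  intro a ha
  rw [smul_eq_mul]
  induction ha using Submodule.span_induction with
  | mem a ha =>
    obtain ⟨⟨f, j, hf⟩, hfs, rfl⟩ := ha
    have h2 := h𝔠 (i + j) (hy f (Ideal.subset_span ⟨_, hfs, rfl⟩))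
    rw [smul_eq_mul, DirectSum.coe_decompose_mul_of_right_mem_of_le _ hf (Nat.le_add_left j i),
      Nat.add_sub_cancel] at h2
    exact h2
  | zero => rw [mul_zero]; exact zero_mem _
  | add a b _ _ ha hb => rw [mul_add]; exact add_mem ha hb
  | smul r a _ ha => rw [smul_eq_mul, mul_left_comm]; exact 𝔠.mul_mem_left r ha

end LinkDeg1
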